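import Mathlib

/-! # Ladder IA (S3928): involutory automorphisms, definitions

A pair `(G, α)`, `α : MulAut G` with `α ∘ α = id` and `[G, α] = G`. -/

set_option autoImplicit false

namespace Cfsg.Agent.Lib.Helper65.IA

variable {G : Type} [Group G]

/-- odd-order elements inverted by `α` -/
def XS (α : MulAut G) : Set G := {g | Odd (orderOf g) ∧ α g = g⁻¹}

/-- `α² = 1` and `[G, α] = G` -/
structure Hyp (α : MulAut G) : Prop where
  sq : ∀ g, α (α g) = g
  gen : Subgroup.closure (Set.range (fun c : G => c * (α c)⁻¹)) = ⊤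

/-- the fixed-point subgroup `C_G(α)` -/
def FixS (α : MulAut G) : Subgroup G where
  carrier := {g | α g = g}
  mul_mem' := by
    intro a b ha hb
    simp only [Set.mem_setOf_eq] at *
    rw [map_mul, ha, hb]
  one_mem' := map_one α
  inv_mem' := by
    intro a ha
    simp only [Set.mem_setOf_eq] at *
    rw [map_inv, ha]

@[simp] theorem mem_FixS {α : MulAut G} {g : G} : g ∈ FixS α ↔ α g = g := Iff.rfl

/-- `N` is `α`-invariant -/
def Inv (α : MulAut G) (N : Subgroup G) : Prop := N.map (α : G ≃* G).toMonoidHom = N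

/-- the automorphism induced on `G ⧸ N` -/
noncomputable def qa (α : MulAut G) (N : Subgroup G) [N.Normal] (h : Inv α N) : MulAut (G ⧸ N) :=
  QuotientGroup.congr N N α h

@[simp] theorem qa_mk (α : MulAut G) (N : Subgroup G) [N.Normal] (h : Inv α N) (g : G) :
    qa α N h (g : G ⧸ N) = ((α g : G) : G ⧸ N) := rfl

/-- `Z(G) ∩ C_G(α) = 1` -/
def Z0triv (α : MulAut G) : Prop := ∀ z ∈ Subgroup.center G, α z = z → z = 1

/-- no nontrivial `α`-invariant normal `2`-subgroup -/
def No2 (α : MulAut G) : Prop :=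
  ∀ P : Subgroup G, P.Normal → Inv α P → IsPGroup 2 P → P = ⊥

theorem inv_of_forall [Finite G] {α : MulAut G} {N : Subgroup G} (h : ∀ g ∈ N, α g ∈ N) :
    Inv α N := by
  have hle : N.map (α : G ≃* G).toMonoidHom ≤ N := by
    rintro _ ⟨g, hg, rfl⟩
    exact h g hg
  apply Subgroup.eq_of_le_of_card_ge hle
  rw [Subgroup.card_map_of_injective (f := (α : G ≃* G).toMonoidHom) (K := N) α.injective]

theorem Inv.mem {α : MulAut G} {N : Subgroup G} (h : Inv α N) {g : G} (hg : g ∈ N) : α g ∈ N := by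
  have : α g ∈ N.map (α : G ≃* G).toMonoidHom := ⟨g, hg, rfl⟩
  rwa [h] at this

theorem one_mem_XS (α : MulAut G) : (1 : G) ∈ XS α := by
  refine ⟨by simp, by simp⟩

end Cfsg.Agent.Lib.Helper65.IA
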