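import Mathlib
import Cfsg.Agent.Lib.Helper65.IA.Defs

set_option autoImplicit false

namespace Cfsg.Agent.Lib.Helper65.IA

/-- the odd part: a power `k ^ e` of odd order with `e ≡ 1` modulo the odd part of the order -/
theorem exists_odd_part {G : Type} [Group G] [Finite G] (k : G) :
    ∃ e : ℕ, Odd (orderOf (k ^ e)) ∧ ∀ d : ℕ, Odd d → d ∣ orderOf k → e ≡ 1 [MOD d] := by
  obtain ⟨a, m, hm, hkm⟩ := Nat.exists_eq_two_pow_mul_odd (orderOf_pos k).ne'
  have hcop : Nat.Coprime (2 ^ a) m := Nat.Coprime.pow_left a (Nat.coprime_two_left.2 hm)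
  obtain ⟨e, he0, he1⟩ := Nat.chineseRemainder hcop 0 1
  refine ⟨e, ?_, ?_⟩
  · have h2 : 2 ^ a ∣ e := (Nat.modEq_zero_iff_dvd).1 he0
    have h1 : (k ^ e) ^ m = 1 := by
      obtain ⟨f, rfl⟩ := h2
      rw [← pow_mul, mul_right_comm, ← hkm, pow_mul, pow_orderOf_eq_one, one_pow]
    exact Odd.of_dvd_nat hm (orderOf_dvd_of_pow_eq_one h1)
  · intro d hd hdk
    have hdm : d ∣ m := by
      rw [hkm] at hdk
      exact (Nat.Coprime.dvd_of_dvd_mul_left
        (Nat.Coprime.pow_right a (Nat.coprime_two_right.2 hd)) hdk)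
    exact he1.of_dvd hdm

theorem kappa_inv {G : Type} [Group G] {α : MulAut G} (hsq : ∀ g, α (α g) = g) (c : G) :
    α (c * (α c)⁻¹) = (c * (α c)⁻¹)⁻¹ := by
  rw [map_mul, map_inv, hsq, mul_inv_rev, inv_inv]

theorem hyp_qa {G : Type} [Group G] [Finite G] {α : MulAut G} (h : Hyp α)
    (N : Subgroup G) [N.Normal] (hN : Inv α N) : Hyp (qa α N hN) := by
  constructor
  · intro g
    obtain ⟨g, rfl⟩ := QuotientGroup.mk_surjective g
    rw [qa_mk, qa_mk, h.sq]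
  · have h1 : (Subgroup.closure (Set.range (fun c : G => c * (α c)⁻¹))).map (QuotientGroup.mk' N)
        = ⊤ := by
      rw [h.gen, ← MonoidHom.range_eq_map, MonoidHom.range_eq_top]
      exact QuotientGroup.mk'_surjective N
    rw [MonoidHom.map_closure] at h1
    rw [← h1]
    congr 1
    ext y
    constructor
    · rintro ⟨c, rfl⟩
      obtain ⟨c, rfl⟩ := QuotientGroup.mk_surjective c
      exact ⟨_, ⟨c, rfl⟩, rfl⟩
    · rintro ⟨_, ⟨c, rfl⟩, rfl⟩
      exact ⟨(c : G ⧸ N), rfl⟩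

theorem lift_XS {G : Type} [Group G] [Finite G] {α : MulAut G} (hsq : ∀ g, α (α g) = g)
    (N : Subgroup G) [N.Normal] (hN : Inv α N) (y : G ⧸ N) (hy : y ∈ XS (qa α N hN)) :
    ∃ x ∈ XS α, (x : G ⧸ N) = y := by
  obtain ⟨hodd, hinv⟩ := hy
  obtain ⟨j, hj⟩ := hodd
  -- w = y ^ (j+1), w^2 = y
  obtain ⟨w, hw⟩ := QuotientGroup.mk_surjective (y ^ (j + 1))
  set k := w * (α w)⁻¹ with hk
  have hky : (k : G ⧸ N) = y := by
    have h1 : ((α w : G) : G ⧸ N) = (y ^ (j + 1))⁻¹ := by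
      rw [← qa_mk α N hN, hw, map_pow, hinv, inv_pow]
    rw [hk, QuotientGroup.mk_mul, QuotientGroup.mk_inv, h1, hw, inv_inv, ← pow_add]
    have : j + 1 + (j + 1) = orderOf y + 1 := by omega
    rw [this, pow_succ, pow_orderOf_eq_one, one_mul]
  have hkinv : α k = k⁻¹ := kappa_inv hsq w
  obtain ⟨e, he, hmod⟩ := exists_odd_part k
  refine ⟨k ^ e, ⟨he, by rw [map_pow, hkinv, inv_pow]⟩, ?_⟩
  rw [QuotientGroup.mk_pow, hky]
  have hd : orderOf y ∣ orderOf k := by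
    rw [← hky]
    exact orderOf_map_dvd (QuotientGroup.mk' N) k
  have := hmod (orderOf y) ⟨j, hj⟩ hd
  rw [← pow_one y] 
  conv_lhs => rw [pow_one]
  exact (pow_eq_pow_iff_modEq).2 this

theorem mk_mem_XS {G : Type} [Group G] [Finite G] {α : MulAut G}
    (N : Subgroup G) [N.Normal] (hN : Inv α N) {x : G} (hx : x ∈ XS α) :
    (x : G ⧸ N) ∈ XS (qa α N hN) := by
  refine ⟨Odd.of_dvd_nat hx.1 (orderOf_map_dvd (QuotientGroup.mk' N) x), ?_⟩
  rw [qa_mk, hx.2, QuotientGroup.mk_inv]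

theorem card_XS_qa_le {G : Type} [Group G] [Finite G] {α : MulAut G} (hsq : ∀ g, α (α g) = g)
    (N : Subgroup G) [N.Normal] (hN : Inv α N) :
    Nat.card (XS (qa α N hN)) ≤ Nat.card (XS α) := by
  apply Nat.card_le_card_of_surjective
    (fun x : XS α => (⟨(x.1 : G ⧸ N), mk_mem_XS N hN x.2⟩ : XS (qa α N hN)))
  rintro ⟨y, hy⟩
  obtain ⟨x, hx, rfl⟩ := lift_XS hsq N hN y hy
  exact ⟨⟨x, hx⟩, rfl⟩

theorem card_XS_qa_lt {G : Type} [Group G] [Finite G] {α : MulAut G} (hsq : ∀ g, α (α g) = g)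
    (N : Subgroup G) [N.Normal] (hN : Inv α N) (x : G) (hx : x ∈ XS α) (hxN : x ∈ N) (hx1 : x ≠ 1) :
    Nat.card (XS (qa α N hN)) < Nat.card (XS α) := by
  by_contra hlt
  have heq : Nat.card (XS α) = Nat.card (XS (qa α N hN)) :=
    le_antisymm (not_lt.1 hlt) (card_XS_qa_le hsq N hN)
  set f : XS α → XS (qa α N hN) := fun x => ⟨(x.1 : G ⧸ N), mk_mem_XS N hN x.2⟩ with hf
  have hsurj : Function.Surjective f := by
    rintro ⟨y, hy⟩
    obtain ⟨x, hx, rfl⟩ := lift_XS hsq N hN y hy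
    exact ⟨⟨x, hx⟩, rfl⟩
  have hbij : Function.Bijective f :=
    (Function.Surjective.bijective_of_nat_card_le hsurj heq.le)
  have : f ⟨x, hx⟩ = f ⟨1, one_mem_XS α⟩ := by
    apply Subtype.ext
    show (x : G ⧸ N) = ((1 : G) : G ⧸ N)
    rw [QuotientGroup.mk_one, QuotientGroup.eq_one_iff]
    exact hxN
  exact hx1 (congrArg Subtype.val (hbij.1 this))

end Cfsg.Agent.Lib.Helper65.IA
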