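import Mathlib
import Cfsg.Agent.Lib.Helper65.IA.Defs
import Cfsg.Agent.Lib.Helper65.IA.Lift
import Cfsg.Agent.S3927

set_option autoImplicit false

namespace Cfsg.Agent.Lib.Helper65.IA

theorem iter_kappa {G : Type} [Group G] {α : MulAut G} (hsq : ∀ g, α (α g) = g) (c : G) (k : ℕ) :
    (fun c : G => c * (α c)⁻¹)^[k + 1] c = (c * (α c)⁻¹) ^ (2 ^ k) := by
  induction k with
  | zero => simp
  | succ k ih =>
    rw [Function.iterate_succ_apply', ih]
    show (c * (α c)⁻¹) ^ 2 ^ k * (α ((c * (α c)⁻¹) ^ 2 ^ k))⁻¹ = _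
    rw [map_pow, kappa_inv hsq, inv_pow, inv_inv, ← pow_add, pow_succ, mul_two]

theorem gen_XS {G : Type} [Group G] [Finite G] {α : MulAut G} (h : Hyp α) :
    Subgroup.closure (XS α) = ⊤ := by
  have h1 := Cfsg.Agent.S3927.result α h.gen (Nat.card G + 1) (by omega)
  rw [eq_top_iff, ← h1]
  apply Subgroup.closure_mono
  rintro _ ⟨c, rfl⟩
  rw [iter_kappa h.sq]
  set y := c * (α c)⁻¹ with hy
  refine ⟨?_, by rw [map_pow, kappa_inv h.sq, inv_pow]⟩
  obtain ⟨a, m, hm, hym⟩ := Nat.exists_eq_two_pow_mul_odd (orderOf_pos y).ne'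
  have ha : a ≤ Nat.card G := by
    have h2 : 2 ^ a ≤ orderOf y := by
      rw [hym]; exact Nat.le_mul_of_pos_right _ hm.pos
    have h3 : orderOf y ≤ Nat.card G := orderOf_le_card
    have h4 : a < 2 ^ a := Nat.lt_two_pow_self
    omega
  have h5 : (y ^ 2 ^ Nat.card G) ^ m = 1 := by
    obtain ⟨b, hb⟩ := Nat.exists_eq_add_of_le ha
    rw [← pow_mul, hb, pow_add, mul_right_comm, ← hym, pow_mul, pow_orderOf_eq_one, one_pow]
  exact Odd.of_dvd_nat hm (orderOf_dvd_of_pow_eq_one h5)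

end Cfsg.Agent.Lib.Helper65.IA
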