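import Mathlib
import Cfsg.Agent.Lib.Helper65.IA.Defs
import Cfsg.Agent.Lib.Helper65.IA.Gen
import Cfsg.Agent.Lib.Helper51.CharP

set_option autoImplicit false

namespace Cfsg.Agent.Lib.Helper65.IA

open Cfsg Cfsg.Agent.Lib.Helper51

/-- restriction of an involutory automorphism to an invariant subgroup -/
def res {G : Type} [Group G] (α : MulAut G) (hsq : ∀ g, α (α g) = g) (A : Subgroup G)
    (hA : ∀ a ∈ A, α a ∈ A) : MulAut A where
  toFun a := ⟨α a.1, hA a.1 a.2⟩
  invFun a := ⟨α a.1, hA a.1 a.2⟩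
  left_inv a := Subtype.ext (hsq a.1)
  right_inv a := Subtype.ext (hsq a.1)
  map_mul' a b := Subtype.ext (map_mul α a.1 b.1)

@[simp] theorem res_coe {G : Type} [Group G] (α : MulAut G) (hsq : ∀ g, α (α g) = g)
    (A : Subgroup G) (hA : ∀ a ∈ A, α a ∈ A) (a : A) : ((res α hsq A hA a : A) : G) = α a.1 := rfl

/-- `[G, α]` -/
def comm1 {G : Type} [Group G] (α : MulAut G) : Subgroup G :=
  Subgroup.closure (Set.range (fun c : G => c * (α c)⁻¹))

theorem kappa_mem {G : Type} [Group G] (α : MulAut G) (c : G) : c * (α c)⁻¹ ∈ comm1 α :=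
  Subgroup.subset_closure ⟨c, rfl⟩

theorem comm1_normal {G : Type} [Group G] (α : MulAut G) : (comm1 α).Normal := by
  constructor
  intro n hn g
  induction hn using Subgroup.closure_induction with
  | mem x hx =>
    obtain ⟨a, rfl⟩ := hx
    have : g * (a * (α a)⁻¹) * g⁻¹ = ((g * a) * (α (g * a))⁻¹) * (g * (α g)⁻¹)⁻¹ := by
      rw [map_mul]; group
    rw [this]
    exact Subgroup.mul_mem _ (kappa_mem α _) (Subgroup.inv_mem _ (kappa_mem α _))
  | one => simp
  | mul x y _ _ hx hy =>
    have : g * (x * y) * g⁻¹ = (g * x * g⁻¹) * (g * y * g⁻¹) := by group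
    rw [this]; exact Subgroup.mul_mem _ hx hy
  | inv x _ hx =>
    have : g * x⁻¹ * g⁻¹ = (g * x * g⁻¹)⁻¹ := by group
    rw [this]; exact Subgroup.inv_mem _ hx

theorem comm1_inv {G : Type} [Group G] (α : MulAut G) (hsq : ∀ g, α (α g) = g) :
    ∀ a ∈ comm1 α, α a ∈ comm1 α := by
  intro a ha
  induction ha using Subgroup.closure_induction with
  | mem x hx =>
    obtain ⟨c, rfl⟩ := hx
    rw [kappa_inv hsq]
    exact Subgroup.inv_mem _ (kappa_mem α c)
  | one => simp
  | mul x y _ _ hx hy => rw [map_mul]; exact Subgroup.mul_mem _ hx hy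
  | inv x _ hx => rw [map_inv]; exact Subgroup.inv_mem _ hx

/-- NIL: if `α` inverts no nontrivial element of odd order then `[G, α] ≤ O_2(G)`. -/
theorem kappa_mem_pCore : ∀ (N : ℕ) (A : Type) [Group A] [Finite A] (β : MulAut A),
    Nat.card A ≤ N → (∀ g, β (β g) = g) → (∀ x ∈ XS β, x = 1) →
    ∀ a : A, a * (β a)⁻¹ ∈ pCore 2 A := by
  intro N
  induction N with
  | zero =>
    intro A _ _ β hc
    have := Nat.card_pos (α := A)
    omega
  | succ N ih =>
    intro A _ _ β hc hsq hX a
    have hp2 : Fact (Nat.Prime 2) := ⟨Nat.prime_two⟩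
    by_cases htop : comm1 β = ⊤
    · have h1 := gen_XS (α := β) ⟨hsq, htop⟩
      have h2 : Subgroup.closure (XS β) = ⊥ := by
        rw [Subgroup.closure_eq_bot_iff]
        intro x hx
        exact hX x hx
      rw [h2] at h1
      have h3 : a * (β a)⁻¹ ∈ (⊥ : Subgroup A) := by rw [h1]; trivial
      rw [Subgroup.mem_bot] at h3
      rw [h3]; exact Subgroup.one_mem _
    · set A1 := comm1 β with hA1
      haveI hA1n : A1.Normal := comm1_normal β
      have hA1i := comm1_inv β hsq
      have hlt : Nat.card A1 < Nat.card A := by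
        have hle : Nat.card A1 ≤ Nat.card A := Subgroup.card_le_card_group A1
        rcases hle.lt_or_eq with h | h
        · exact h
        · exact absurd (Subgroup.eq_top_of_card_eq A1 h) htop
      set β1 := res β hsq A1 hA1i with hβ1
      have hih := ih A1 β1 (by omega) (fun g => Subtype.ext (hsq g.1)) (by
        intro x hx
        apply Subtype.ext
        apply hX x.1
        refine ⟨?_, ?_⟩
        · have := hx.1
          rwa [Subgroup.orderOf_mk] at this
        · have := congrArg Subtype.val hx.2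
          exact this)
      set R : Subgroup A := (pCore 2 A1).map A1.subtype with hR
      haveI hRn : R.Normal := map_pCore_normal A1
      have hR2 : IsPGroup 2 R := (pCore_isPGroup 2).map _
      have hkR : ∀ e ∈ A1, e * (β e)⁻¹ ∈ R := by
        intro e he
        exact ⟨_, hih ⟨e, he⟩, rfl⟩
      -- work modulo R
      have hfix : ∀ e ∈ A1, ((β e : A) : A ⧸ R) = e := by
        intro e he
        have := (QuotientGroup.eq_one_iff _).2 (hkR e he)
        rw [QuotientGroup.mk_mul, QuotientGroup.mk_inv, mul_inv_eq_one] at this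
        exact this.symm
      have hsq1 : ∀ b : A, ((b * (β b)⁻¹ : A) : A ⧸ R) * ((b * (β b)⁻¹ : A) : A ⧸ R) = 1 := by
        intro b
        have h1 := hfix _ (kappa_mem β b)
        rw [kappa_inv hsq, QuotientGroup.mk_inv] at h1
        nth_rewrite 1 [← h1]
        exact inv_mul_cancel _
      have hcomm : ∀ b : A, ∀ e ∈ A1,
          ((b * (β b)⁻¹ : A) : A ⧸ R) * (e : A ⧸ R) = (e : A ⧸ R) * ((b * (β b)⁻¹ : A) : A ⧸ R) := by
        intro b e he
        have he' : b⁻¹ * e * b ∈ A1 := by
          have := hA1n.conj_mem e he b⁻¹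
          simpa using this
        have h1 := hfix _ he'
        rw [map_mul, map_mul, map_inv] at h1
        have h2 := hfix e he
        simp only [QuotientGroup.mk_mul, QuotientGroup.mk_inv] at h1 ⊢
        rw [h2] at h1
        -- (βb)⁻¹ e βb = b⁻¹ e b
        have h3 : (b : A ⧸ R) * ((β b : A) : A ⧸ R)⁻¹ * e * (((β b : A) : A ⧸ R) * (b : A ⧸ R)⁻¹)
            = e := by
          calc (b : A ⧸ R) * ((β b : A) : A ⧸ R)⁻¹ * e * (((β b : A) : A ⧸ R) * (b : A ⧸ R)⁻¹)
              = b * (((β b : A) : A ⧸ R)⁻¹ * e * ((β b : A) : A ⧸ R)) * (b : A ⧸ R)⁻¹ := by group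
            _ = b * ((b : A ⧸ R)⁻¹ * e * b) * (b : A ⧸ R)⁻¹ := by rw [h1]
            _ = e := by group
        calc (b : A ⧸ R) * ((β b : A) : A ⧸ R)⁻¹ * e
            = ((b : A ⧸ R) * ((β b : A) : A ⧸ R)⁻¹ * e * (((β b : A) : A ⧸ R) * (b : A ⧸ R)⁻¹))
                * ((b : A ⧸ R) * ((β b : A) : A ⧸ R)⁻¹) := by group
          _ = e * ((b : A ⧸ R) * ((β b : A) : A ⧸ R)⁻¹) := by rw [h3]
      have hall : ∀ e ∈ A1, (e : A ⧸ R) * (e : A ⧸ R) = 1 ∧
          ∀ e' ∈ A1, (e : A ⧸ R) * (e' : A ⧸ R) = (e' : A ⧸ R) * (e : A ⧸ R) := by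
        intro e he
        induction he using Subgroup.closure_induction with
        | mem x hx =>
          obtain ⟨b, rfl⟩ := hx
          exact ⟨hsq1 b, hcomm b⟩
        | one => simp
        | mul x y hx hy ihx ihy =>
          refine ⟨?_, ?_⟩
          · rw [QuotientGroup.mk_mul]
            calc (x : A ⧸ R) * y * (x * y) = x * (y * x) * y := by group
              _ = x * (x * y) * y := by rw [ihy.2 x hx]
              _ = (x * x) * (y * y) := by group
              _ = 1 := by rw [ihx.1, ihy.1, one_mul]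
          · intro e' he'
            rw [QuotientGroup.mk_mul, mul_assoc, ihy.2 e' he', ← mul_assoc, ihx.2 e' he', mul_assoc]
        | inv x hx ihx =>
          have hxi : (x : A ⧸ R)⁻¹ = x := inv_eq_of_mul_eq_one_left ihx.1
          rw [QuotientGroup.mk_inv, hxi]
          exact ihx
      have hA12 : IsPGroup 2 A1 := by
        intro e
        have h1 : e.1 * e.1 ∈ R := by
          rw [← QuotientGroup.eq_one_iff, QuotientGroup.mk_mul]
          exact (hall e.1 e.2).1
        obtain ⟨k, hk⟩ := hR2 ⟨_, h1⟩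
        refine ⟨k + 1, Subtype.ext ?_⟩
        have hk' : (e.1 * e.1) ^ 2 ^ k = 1 := by
          have := congrArg Subtype.val hk
          simpa using this
        rw [← pow_two, ← pow_mul, ← pow_succ'] at hk'
        simpa using hk'
      exact le_pCore 2 hA1n hA12 (kappa_mem β a)

theorem exists_XS_mem {G : Type} [Group G] [Finite G] {α : MulAut G} (h : Hyp α)
    (hZ : Z0triv α) (h2 : No2 α) (A : Subgroup G) (hA : A.Normal) (hAi : Inv α A) (hA1 : A ≠ ⊥) :
    ∃ x ∈ XS α, x ∈ A ∧ x ≠ 1 := by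
  by_contra hcon
  have hp2 : Fact (Nat.Prime 2) := ⟨Nat.prime_two⟩
  have hX : ∀ x ∈ XS α, x ∈ A → x = 1 := by
    intro x hx hxA
    by_contra hx1
    exact hcon ⟨x, hx, hxA, hx1⟩
  set β := res α h.sq A (fun a ha => hAi.mem ha) with hβ
  have hk := kappa_mem_pCore (Nat.card A) A β le_rfl (fun g => Subtype.ext (h.sq g.1)) (by
    intro x hx
    apply Subtype.ext
    apply hX x.1 _ x.2
    refine ⟨?_, ?_⟩
    · have := hx.1
      rwa [Subgroup.orderOf_mk] at this
    · have := congrArg Subtype.val hx.2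
      exact this)
  set R : Subgroup G := (pCore 2 A).map A.subtype with hR
  have hRn : R.Normal := map_pCore_normal A
  have hR2 : IsPGroup 2 R := (pCore_isPGroup 2).map _
  have hRi : Inv α R := by
    apply inv_of_forall
    rintro _ ⟨y, hy, rfl⟩
    exact ⟨β y, (mem_pCore_equiv 2 β y).2 hy, rfl⟩
  have hRbot := h2 R hRn hRi hR2
  have hfix : ∀ a ∈ A, α a = a := by
    intro a ha
    have h1 : a * (α a)⁻¹ ∈ R := ⟨_, hk ⟨a, ha⟩, rfl⟩
    rw [hRbot, Subgroup.mem_bot, mul_inv_eq_one] at h1
    exact h1.symm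
  apply hA1
  rw [eq_bot_iff]
  intro a ha
  rw [Subgroup.mem_bot]
  apply hZ a _ (hfix a ha)
  rw [Subgroup.mem_center_iff]
  have hle : Subgroup.closure (Set.range (fun c : G => c * (α c)⁻¹)) ≤
      Subgroup.centralizer ({a} : Set G) := by
    rw [Subgroup.closure_le]
    rintro _ ⟨g, rfl⟩
    rw [SetLike.mem_coe, Subgroup.mem_centralizer_singleton_iff]
    have h1 : g⁻¹ * a * g ∈ A := by
      have := hA.conj_mem a ha g⁻¹
      simpa using this
    have h3 := hfix _ h1
    rw [map_mul, map_mul, map_inv, hfix a ha] at h3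
    -- (αg)⁻¹ a αg = g⁻¹ a g
    calc g * (α g)⁻¹ * a = g * ((α g)⁻¹ * a * α g) * (α g)⁻¹ := by group
      _ = g * (g⁻¹ * a * g) * (α g)⁻¹ := by rw [h3]
      _ = a * (g * (α g)⁻¹) := by group
  intro g
  have hg : g ∈ Subgroup.centralizer ({a} : Set G) := hle (by rw [h.gen]; trivial)
  rw [Subgroup.mem_centralizer_singleton_iff] at hg
  exact hg

end Cfsg.Agent.Lib.Helper65.IA
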