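import Mathlib
import Cfsg.Agent.Lib.Helper65.IA.Defs
import Cfsg.Agent.Lib.Helper65.IA.Gen
import Cfsg.Agent.Lib.Helper65.IA.No2Max

set_option autoImplicit false

namespace Cfsg.Agent.Lib.Helper65.IA

theorem eq_one_of_odd_of_sq {G : Type} [Group G] {e : G} (ho : Odd (orderOf e)) (h2 : e * e = 1) :
    e = 1 := by
  have h1 : orderOf e ∣ 2 := orderOf_dvd_of_pow_eq_one (by rw [pow_two, h2])
  have h3 : orderOf e = 1 := by
    rcases (Nat.dvd_prime Nat.prime_two).1 h1 with h | h
    · exact h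
    · rw [h] at ho; exact absurd ho (by decide)
  exact orderOf_eq_one_iff.1 h3

theorem normal_of_le_center {G : Type} [Group G] {Q : Subgroup G} (h : Q ≤ Subgroup.center G) :
    Q.Normal := by
  constructor
  intro n hn g
  have := Subgroup.mem_center_iff.1 (h hn) g
  rw [this, mul_inv_cancel_right]
  exact hn

theorem center_kill {G : Type} [Group G] [Finite G] {α : MulAut G} (h : Hyp α) :
    ∃ (Q : Subgroup G) (_ : Q.Normal) (hQ : Inv α Q), Q ≤ Subgroup.center G ∧
      Z0triv (qa α Q hQ) := by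
  obtain ⟨Q, ⟨hQc, hQi, hQo⟩, hmax⟩ := Set.exists_max_image
    {Q : Subgroup G | Q ≤ Subgroup.center G ∧ Inv α Q ∧ ∀ q ∈ Q, Odd (orderOf q) → α q = q}
    (fun Q => Nat.card Q) (Set.toFinite _)
    ⟨⊥, bot_le, inv_bot α, by
      intro q hq _
      rw [Subgroup.mem_bot] at hq
      rw [hq, map_one]⟩
  haveI hQn : Q.Normal := normal_of_le_center hQc
  refine ⟨Q, hQn, hQi, hQc, ?_⟩
  set Q' : Subgroup G :=
    (Subgroup.center (G ⧸ Q) ⊓ FixS (qa α Q hQi)).comap (QuotientGroup.mk' Q) with hQ'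
  have hmem : ∀ g, g ∈ Q' ↔ ((g : G ⧸ Q) ∈ Subgroup.center (G ⧸ Q) ∧ ((α g : G) : G ⧸ Q) = g) := by
    intro g
    rw [hQ', Subgroup.mem_comap, Subgroup.mem_inf, mem_FixS]
    rfl
  -- α g ∈ g Q
  have hq : ∀ g ∈ Q', g⁻¹ * α g ∈ Q := by
    intro g hg
    have := ((hmem g).1 hg).2
    exact QuotientGroup.eq.1 this.symm
  have hcen : Q' ≤ Subgroup.center G := by
    intro g hg
    have hle : Subgroup.closure (XS α) ≤ Subgroup.centralizer ({g} : Set G) := by
      rw [Subgroup.closure_le]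
      intro x hx
      rw [SetLike.mem_coe, Subgroup.mem_centralizer_singleton_iff]
      set e := g * x * g⁻¹ * x⁻¹ with he
      have heQ : e ∈ Q := by
        rw [← QuotientGroup.eq_one_iff, he]
        have hc := Subgroup.mem_center_iff.1 ((hmem g).1 hg).1 (x : G ⧸ Q)
        rw [QuotientGroup.mk_mul, QuotientGroup.mk_mul, QuotientGroup.mk_mul, ← hc,
          QuotientGroup.mk_inv, QuotientGroup.mk_inv]
        group
      have hec : ∀ y, y * e = e * y := fun y => Subgroup.mem_center_iff.1 (hQc heQ) y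
      have hgx : g * x * g⁻¹ = e * x := by rw [he]; group
      have hem : e ^ orderOf x = 1 := by
        have h1 : (g * x * g⁻¹) ^ orderOf x = 1 := by
          rw [conj_pow, pow_orderOf_eq_one]; group
        rw [hgx, (show Commute e x from (hec x).symm).mul_pow, pow_orderOf_eq_one, mul_one] at h1
        exact h1
      have heo : Odd (orderOf e) := Odd.of_dvd_nat hx.1 (orderOf_dvd_of_pow_eq_one hem)
      have hae : α e = e := hQo e heQ heo
      set q := g⁻¹ * α g with hqd
      have hqQ : q ∈ Q := hq g hg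
      have hqc : ∀ y, y * q = q * y := fun y => Subgroup.mem_center_iff.1 (hQc hqQ) y
      have hag : α g = g * q := by rw [hqd]; group
      have h2 : g * x⁻¹ * g⁻¹ = e * x⁻¹ := by
        have h3 := congrArg α hgx
        rw [map_mul, map_mul, map_mul, map_inv, hx.2, hae, hag] at h3
        rw [← h3, mul_inv_rev]
        calc g * x⁻¹ * g⁻¹ = g * (x⁻¹ * q * q⁻¹) * g⁻¹ := by group
          _ = g * (q * x⁻¹ * q⁻¹) * g⁻¹ := by rw [hqc x⁻¹]
          _ = g * q * x⁻¹ * (q⁻¹ * g⁻¹) := by group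
      have h4 : g * x⁻¹ * g⁻¹ = e⁻¹ * x⁻¹ := by
        have : g * x⁻¹ * g⁻¹ = (g * x * g⁻¹)⁻¹ := by group
        rw [this, hgx, mul_inv_rev]
        have := hec x⁻¹
        have h5 : x⁻¹ * e⁻¹ = e⁻¹ * x⁻¹ := by
          have : e⁻¹ * (x⁻¹ * e) * e⁻¹ = e⁻¹ * (e * x⁻¹) * e⁻¹ := by rw [this]
          simpa [mul_assoc] using this.symm
        exact h5
      have h6 : e = e⁻¹ := by
        have := h2.symm.trans h4
        exact mul_right_cancel this
      have he1 : e = 1 := eq_one_of_odd_of_sq heo (by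
        nth_rewrite 2 [h6]; exact mul_inv_cancel e)
      rw [he1, one_mul] at hgx
      rw [mul_inv_eq_iff_eq_mul] at hgx
      exact hgx.symm
    rw [Subgroup.mem_center_iff]
    intro y
    have hy : y ∈ Subgroup.centralizer ({g} : Set G) := hle (by rw [gen_XS h]; trivial)
    rw [Subgroup.mem_centralizer_singleton_iff] at hy
    exact hy
  have hinv : Inv α Q' := by
    apply inv_of_forall
    intro g hg
    obtain ⟨h1, h2⟩ := (hmem g).1 hg
    rw [hmem, h2, h.sq]
    exact ⟨h1, rfl⟩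
  have hodd : ∀ w ∈ Q', Odd (orderOf w) → α w = w := by
    intro w hw hwo
    set q := w⁻¹ * α w with hqd
    have hqQ : q ∈ Q := hq w hw
    have hwc : ∀ y, y * w = w * y := fun y => Subgroup.mem_center_iff.1 (hcen hw) y
    have haw : α w = w * q := by rw [hqd]; group
    have hqo : Odd (orderOf q) := by
      have h1 : q ^ orderOf w = 1 := by
        have hcomm : Commute w⁻¹ (α w) := by
          have := hwc (α w)
          exact (Commute.inv_left (show Commute w (α w) from this.symm))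
        rw [hqd, hcomm.mul_pow, inv_pow, pow_orderOf_eq_one, ← map_pow, pow_orderOf_eq_one]
        simp
      exact Odd.of_dvd_nat hwo (orderOf_dvd_of_pow_eq_one h1)
    have haq : α q = q := hQo q hqQ hqo
    have h2 : q * q = 1 := by
      have h3 := h.sq w
      rw [haw, map_mul, haw, haq] at h3
      have : w * (q * q) = w * 1 := by rw [mul_one, ← mul_assoc]; exact h3
      exact mul_left_cancel this
    rw [haw, eq_one_of_odd_of_sq hqo h2, mul_one]
  have hle : Q ≤ Q' := by
    intro g hg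
    rw [hmem]
    have h1 : (g : G ⧸ Q) = 1 := (QuotientGroup.eq_one_iff g).2 hg
    have h2 : ((α g : G) : G ⧸ Q) = 1 := (QuotientGroup.eq_one_iff _).2 (hQi.mem hg)
    rw [h1, h2]
    exact ⟨Subgroup.one_mem _, rfl⟩
  have heq : Q = Q' := Subgroup.eq_of_le_of_card_ge hle (hmax Q' ⟨hcen, hinv, hodd⟩)
  intro z hz hzf
  obtain ⟨g, rfl⟩ := QuotientGroup.mk_surjective z
  have hg : g ∈ Q' := (hmem g).2 ⟨hz, hzf⟩
  rw [← heq] at hg
  exact (QuotientGroup.eq_one_iff g).2 hg

end Cfsg.Agent.Lib.Helper65.IA
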