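import Mathlib
import Cfsg.Agent.Lib.Helper65.IA.Defs
import Cfsg.Agent.Lib.Helper65.IA.Gen

set_option autoImplicit false

namespace Cfsg.Agent.Lib.Helper65.IA

theorem conj_mem_XS {G : Type} [Group G] {α : MulAut G} {c x : G} (hc : α c = c) (hx : x ∈ XS α) :
    c * x * c⁻¹ ∈ XS α := by
  refine ⟨?_, ?_⟩
  · have : orderOf (c * x * c⁻¹) = orderOf x := by
      have := orderOf_injective (MulAut.conj c).toMonoidHom (MulAut.conj c).injective x
      simpa using this
    rw [this]; exact hx.1
  · rw [map_mul, map_mul, map_inv, hc, hx.2]; group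

/-- the conjugation action of `FixS α` on `XS α` -/
noncomputable def fixPerm {G : Type} [Group G] (α : MulAut G) : FixS α →* Equiv.Perm (XS α) where
  toFun c :=
    { toFun := fun x => ⟨c.1 * x.1 * c.1⁻¹, conj_mem_XS c.2 x.2⟩
      invFun := fun x => ⟨c.1⁻¹ * x.1 * (c.1⁻¹)⁻¹, conj_mem_XS ((FixS α).inv_mem c.2) x.2⟩
      left_inv := by intro x; apply Subtype.ext; simp [mul_assoc]
      right_inv := by intro x; apply Subtype.ext; simp [mul_assoc] }
  map_one' := by ext x; simp
  map_mul' := by intro a b; ext x; simp [mul_assoc]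

theorem card_FixS_le {G : Type} [Group G] [Finite G] {α : MulAut G} (h : Hyp α)
    (hZ : Z0triv α) : Nat.card (FixS α) ≤ (Nat.card (XS α)).factorial := by
  have hinj : Function.Injective (fixPerm α) := by
    rw [injective_iff_map_eq_one]
    intro c hc
    apply Subtype.ext
    apply hZ c.1 _ c.2
    rw [Subgroup.mem_center_iff]
    have hle : Subgroup.closure (XS α) ≤ Subgroup.centralizer ({c.1} : Set G) := by
      rw [Subgroup.closure_le]
      intro x hx
      have h1 := congrArg (fun f => (f ⟨x, hx⟩).1) hc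
      have h2 : c.1 * x * c.1⁻¹ = x := h1
      rw [SetLike.mem_coe, Subgroup.mem_centralizer_singleton_iff]
      rw [mul_inv_eq_iff_eq_mul] at h2
      exact h2.symm
    intro g
    have hg : g ∈ Subgroup.centralizer ({c.1} : Set G) := hle (by rw [gen_XS h]; trivial)
    rw [Subgroup.mem_centralizer_singleton_iff] at hg
    exact hg
  have := Nat.card_le_card_of_injective _ hinj
  rwa [Nat.card_perm] at this

end Cfsg.Agent.Lib.Helper65.IA
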