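import Mathlib
import Cfsg.Agent.Lib.Helper65.IA.Defs
import Cfsg.Agent.Lib.Helper65.IA.Gen
import Cfsg.Agent.Lib.Helper65.IA.CK
import Cfsg.Agent.Lib.Helper30.SZ

set_option autoImplicit false

namespace Cfsg.Agent.Lib.Helper65.IA

theorem eq_one_of_mem_two_of_odd {G : Type} [Group G] {P : Subgroup G} (hP : IsPGroup 2 P) {g : G}
    (hg : g ∈ P) (ho : Odd (orderOf g)) : g = 1 := by
  obtain ⟨k, hk⟩ := hP ⟨g, hg⟩
  have hk' : g ^ 2 ^ k = 1 := by
    have := congrArg Subtype.val hk
    simpa using this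
  have h1 : orderOf g ∣ 2 ^ k := orderOf_dvd_of_pow_eq_one hk'
  have hcop : Nat.Coprime (orderOf g) (2 ^ k) := Nat.Coprime.pow_right k (Nat.coprime_two_right.2 ho)
  exact orderOf_eq_one_iff.1 (Nat.Coprime.eq_one_of_dvd hcop h1)

theorem odd_orderOf_zpow {G : Type} [Group G] {x : G} (hx : Odd (orderOf x)) (j : ℤ) :
    Odd (orderOf (x ^ j)) :=
  Odd.of_dvd_nat hx (orderOf_dvd_of_mem_zpowers ⟨j, rfl⟩)

/-- order of an odd-order element modulo a normal `2`-subgroup -/
theorem orderOf_eq_of_mul_mem {G : Type} [Group G] [Finite G] {P : Subgroup G} [P.Normal]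
    (hP : IsPGroup 2 P) {x x' : G} (hx : Odd (orderOf x)) (hx' : Odd (orderOf x'))
    (h : (x : G ⧸ P) = x') : orderOf x = orderOf x' := by
  have key : ∀ {a b : G}, Odd (orderOf a) → Odd (orderOf b) → (a : G ⧸ P) = b →
      orderOf a ∣ orderOf b := by
    intro a b ha _ hab
    apply orderOf_dvd_of_pow_eq_one
    apply eq_one_of_mem_two_of_odd hP
    · rw [← QuotientGroup.eq_one_iff, QuotientGroup.mk_pow, hab, ← QuotientGroup.mk_pow,
        pow_orderOf_eq_one, QuotientGroup.mk_one]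
    · exact Odd.of_dvd_nat ha (orderOf_pow_dvd _)
  exact Nat.dvd_antisymm (key hx hx' h) (key hx' hx h.symm)

/-- Schur–Zassenhaus: odd-order elements in the same coset of a normal `2`-subgroup are conjugate -/
theorem exists_conj_of_coset {G : Type} [Group G] [Finite G] {P : Subgroup G} [P.Normal]
    (hP : IsPGroup 2 P) {x x' : G} (hx : Odd (orderOf x)) (hx' : Odd (orderOf x'))
    (h : (x : G ⧸ P) = x') : ∃ p ∈ P, x' = p * x * p⁻¹ := by
  have hp2 : Fact (Nat.Prime 2) := ⟨Nat.prime_two⟩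
  have hord := orderOf_eq_of_mul_mem hP hx hx' h
  have hsol : Group.IsSolvable P := by
    haveI := hP.isNilpotent
    infer_instance
  obtain ⟨k, hk⟩ := IsPGroup.iff_card.1 hP
  have hcop : (Nat.card P).Coprime (Nat.card (Subgroup.zpowers x)) := by
    rw [hk, Nat.card_zpowers]
    exact Nat.Coprime.pow_left k (Nat.coprime_two_left.2 hx)
  have hK : Subgroup.zpowers x' ≤ P ⊔ Subgroup.zpowers x := by
    rw [Subgroup.zpowers_le]
    have h1 : x' * x⁻¹ ∈ P := by
      rw [← QuotientGroup.eq_one_iff, QuotientGroup.mk_mul, QuotientGroup.mk_inv, h]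
      exact mul_inv_cancel _
    have : x' = (x' * x⁻¹) * x := by group
    rw [this]
    exact Subgroup.mul_mem _ ((le_sup_left : P ≤ _) h1)
      ((le_sup_right : Subgroup.zpowers x ≤ _) (Subgroup.mem_zpowers x))
  obtain ⟨p, hp, hpK⟩ := Cfsg.Agent.Lib.Helper30.sz_conj_solvable_normal P hsol
    (Subgroup.zpowers x) (Subgroup.zpowers x') hcop hK (by
      rw [Nat.card_zpowers, Nat.card_zpowers, hord])
  refine ⟨p, hp, ?_⟩
  have h2 : p * x * p⁻¹ ∈ Subgroup.zpowers x' := by
    rw [hpK]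
    exact ⟨x, Subgroup.mem_zpowers x, rfl⟩
  obtain ⟨j, hj⟩ := h2
  have hj' : x' ^ j = p * x * p⁻¹ := hj
  -- x'^j * x'⁻¹ ∈ P of odd order
  have h3 : x' ^ (j - 1) ∈ P := by
    rw [← QuotientGroup.eq_one_iff, zpow_sub, zpow_one, hj', QuotientGroup.mk_mul,
      QuotientGroup.mk_mul, QuotientGroup.mk_mul, QuotientGroup.mk_inv, QuotientGroup.mk_inv,
      (QuotientGroup.eq_one_iff p).2 hp, h]
    group
  have h4 := eq_one_of_mem_two_of_odd hP h3 (odd_orderOf_zpow hx' _)
  rw [zpow_sub, zpow_one, mul_inv_eq_one] at h4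
  rw [← hj', h4]

/-- the key count -/
theorem card_le_of_mem_XS {G : Type} [Group G] [Finite G] {α : MulAut G} (hsq : ∀ g, α (α g) = g)
    (P : Subgroup G) [P.Normal] (hPi : Inv α P) (hP : IsPGroup 2 P) (x : G) (hx : x ∈ XS α) :
    Nat.card P ≤ Nat.card (FixS α) *
      (Nat.card (XS α) * Nat.card (P ⊓ Subgroup.centralizer ({x} : Set G) : Subgroup G)) := by
  classical
  haveI : Fintype G := Fintype.ofFinite G
  haveI : Fintype P := Fintype.ofFinite P
  haveI : Fintype (XS α) := Fintype.ofFinite _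
  haveI : Fintype (FixS α) := Fintype.ofFinite _
  haveI : Fintype (P ⊓ Subgroup.centralizer ({x} : Set G) : Subgroup G) := Fintype.ofFinite _
  set f : P → G := fun p => p.1⁻¹ * x * α p.1 with hf
  -- the square root
  obtain ⟨j, hj⟩ := hx.1
  set y := x ^ j with hy
  have hyy : y * y = x⁻¹ := by
    rw [hy, ← pow_add, eq_inv_iff_mul_eq_one, ← pow_succ]
    have : j + j + 1 = orderOf x := by omega
    rw [this, pow_orderOf_eq_one]
  have hay : α y = y⁻¹ := by rw [hy, map_pow, hx.2, inv_pow]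
  have hx_y : x = y⁻¹ * y⁻¹ := by
    have := congrArg (·⁻¹) hyy
    simpa using this.symm
  -- fibres
  have hfib : ∀ b ∈ (Finset.univ : Finset P).image f,
      (Finset.univ.filter (fun a : P => f a = b)).card ≤ Fintype.card (FixS α) := by
    intro b hb
    obtain ⟨p0, -, rfl⟩ := Finset.mem_image.1 hb
    have hmem : ∀ p : P, f p = f p0 → y * (p0.1 * p.1⁻¹) * y⁻¹ ∈ FixS α := by
      intro p hp
      rw [mem_FixS]
      have h1 : p.1⁻¹ * x * α p.1 = p0.1⁻¹ * x * α p0.1 := hp
      have h2 : α (p0.1 * p.1⁻¹) = x⁻¹ * (p0.1 * p.1⁻¹) * x := by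
        rw [map_mul, map_inv]
        have h3 : α p0.1 = x⁻¹ * p0.1 * (p.1⁻¹ * x * α p.1) := by rw [h1]; group
        rw [h3]; group
      rw [map_mul, map_mul, map_inv, hay, h2, hx_y]
      group
    rw [← Finset.card_univ]
    apply Finset.card_le_card_of_injOn
      (fun p : P => if h : f p = f p0 then (⟨_, hmem p h⟩ : FixS α) else 1)
    · intro p _; exact Finset.mem_coe.2 (Finset.mem_univ _)
    · intro p hp q hq hpq
      have hp' : f p = f p0 := (Finset.mem_filter.1 (Finset.mem_coe.1 hp)).2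
      have hq' : f q = f p0 := (Finset.mem_filter.1 (Finset.mem_coe.1 hq)).2
      simp only [hp', hq', dif_pos] at hpq
      have h1 : y * (p0.1 * p.1⁻¹) * y⁻¹ = y * (p0.1 * q.1⁻¹) * y⁻¹ := congrArg Subtype.val hpq
      have h2 : p.1⁻¹ = q.1⁻¹ := by
        have := mul_left_cancel (mul_right_cancel h1)
        exact mul_left_cancel this
      exact Subtype.ext (inv_injective h2)
  have h1 := Finset.card_le_mul_card_image (f := f) Finset.univ _ hfib
  -- the image
  have hconj : ∀ x' : XS α, ∃ p : G, ((x : G ⧸ P) = x'.1 → p ∈ P ∧ x'.1 = p * x * p⁻¹) := by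
    intro x'
    by_cases h : (x : G ⧸ P) = x'.1
    · obtain ⟨p, hp, hpx⟩ := exists_conj_of_coset hP hx.1 x'.2.1 h
      exact ⟨p, fun _ => ⟨hp, hpx⟩⟩
    · exact ⟨1, fun h' => absurd h' h⟩
  choose pc hpc using hconj
  set hmap : XS α × (P ⊓ Subgroup.centralizer ({x} : Set G) : Subgroup G) → G :=
    fun w => (pc w.1 * w.2.1 * (pc w.1)⁻¹) * w.1.1 with hhmap
  have hsub : (Finset.univ : Finset P).image f ⊆ Finset.univ.image hmap := by
    intro k hk
    obtain ⟨p, -, rfl⟩ := Finset.mem_image.1 hk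
    set k := f p with hkdef
    have hkinv : α k = k⁻¹ := by
      rw [hkdef, hf]
      simp only [map_mul, map_inv, hsq, hx.2, mul_inv_rev, inv_inv, mul_assoc]
    have hkx : (k : G ⧸ P) = x := by
      rw [hkdef, hf]
      simp only [QuotientGroup.mk_mul, QuotientGroup.mk_inv]
      rw [(QuotientGroup.eq_one_iff p.1).2 p.2, (QuotientGroup.eq_one_iff (α p.1)).2 (hPi.mem p.2)]
      simp
    obtain ⟨e, he, hmod⟩ := exists_odd_part k
    have hx'X : k ^ e ∈ XS α := ⟨he, by rw [map_pow, hkinv, inv_pow]⟩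
    have hd : orderOf (x : G ⧸ P) ∣ orderOf k := by
      rw [← hkx]; exact orderOf_map_dvd (QuotientGroup.mk' P) k
    have hdo : Odd (orderOf (x : G ⧸ P)) :=
      Odd.of_dvd_nat hx.1 (orderOf_map_dvd (QuotientGroup.mk' P) x)
    have hx'c : (x : G ⧸ P) = ((k ^ e : G) : G ⧸ P) := by
      rw [QuotientGroup.mk_pow, hkx]
      have := (pow_eq_pow_iff_modEq (x := (x : G ⧸ P))).2 (hmod _ hdo hd)
      rw [this, pow_one]
    obtain ⟨hpP, hpx⟩ := hpc ⟨k ^ e, hx'X⟩ hx'c
    set q := pc ⟨k ^ e, hx'X⟩ with hq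
    have hpx' : k ^ e = q * x * q⁻¹ := hpx
    -- u = k * (k^e)⁻¹
    set u := k * (k ^ e)⁻¹ with hu
    have huP : u ∈ P := by
      rw [← QuotientGroup.eq_one_iff, hu, QuotientGroup.mk_mul, QuotientGroup.mk_inv, ← hx'c, hkx]
      exact mul_inv_cancel _
    have hucomm : u * k ^ e = k ^ e * u := by
      rw [hu]
      have hc : Commute k (k ^ e) := Commute.pow_right (Commute.refl k) e
      have hc2 : Commute (k * (k ^ e)⁻¹) (k ^ e) :=
        Commute.mul_left hc (Commute.inv_left (Commute.refl _))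
      exact hc2
    have hv : q⁻¹ * u * q ∈ (P ⊓ Subgroup.centralizer ({x} : Set G) : Subgroup G) := by
      refine ⟨?_, ?_⟩
      · have := (inferInstance : P.Normal).conj_mem u huP q⁻¹
        simpa using this
      · show q⁻¹ * u * q ∈ Subgroup.centralizer ({x} : Set G)
        rw [Subgroup.mem_centralizer_singleton_iff]
        have hxq : x = q⁻¹ * k ^ e * q := by rw [hpx']; group
        rw [hxq]
        calc q⁻¹ * u * q * (q⁻¹ * k ^ e * q) = q⁻¹ * (u * k ^ e) * q := by group
          _ = q⁻¹ * (k ^ e * u) * q := by rw [hucomm]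
          _ = q⁻¹ * k ^ e * q * (q⁻¹ * u * q) := by group
    refine Finset.mem_image.2 ⟨(⟨k ^ e, hx'X⟩, ⟨_, hv⟩), Finset.mem_univ _, ?_⟩
    show (q * (q⁻¹ * u * q) * q⁻¹) * k ^ e = k
    rw [hu]; group
  have h2 : ((Finset.univ : Finset P).image f).card ≤
      Fintype.card (XS α) * Fintype.card (P ⊓ Subgroup.centralizer ({x} : Set G) : Subgroup G) := by
    refine (Finset.card_le_card hsub).trans (Finset.card_image_le.trans ?_)
    rw [Finset.card_univ, Fintype.card_prod]
  rw [Nat.card_eq_fintype_card, Nat.card_eq_fintype_card, Nat.card_eq_fintype_card,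
    Nat.card_eq_fintype_card]
  rw [Finset.card_univ] at h1
  exact h1.trans (Nat.mul_le_mul le_rfl h2)

/-- a central `α`-invariant `2`-subgroup is trivial if `Z(G) ∩ C_G(α) = 1` -/
theorem eq_one_of_central_two {G : Type} [Group G] [Finite G] {α : MulAut G}
    (hsq : ∀ g, α (α g) = g) (hZ : Z0triv α)
    (P : Subgroup G) (hPi : Inv α P) (hP : IsPGroup 2 P) (w : G) (hw : w ∈ P)
    (hwc : w ∈ Subgroup.center G) : w = 1 := by
  -- every central element of `P` is inverted
  have hinv : ∀ v ∈ P, v ∈ Subgroup.center G → α v = v⁻¹ := by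
    intro v _ hvc
    have havc : α v ∈ Subgroup.center G := by
      rw [Subgroup.mem_center_iff]
      intro g
      have := Subgroup.mem_center_iff.1 hvc (α g)
      have h2 := congrArg α this
      rw [map_mul, map_mul, hsq] at h2
      exact h2
    have h1 : v * α v = 1 := by
      apply hZ _ (Subgroup.mul_mem _ hvc havc)
      rw [map_mul, hsq]
      exact (Subgroup.mem_center_iff.1 hvc (α v))
    exact eq_inv_of_mul_eq_one_right h1
  by_contra hw1
  obtain ⟨k, hk⟩ := hP ⟨w, hw⟩
  have hk' : w ^ 2 ^ k = 1 := by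
    have := congrArg Subtype.val hk
    simpa using this
  obtain ⟨j, _, hj⟩ := (Nat.dvd_prime_pow Nat.prime_two).1 (orderOf_dvd_of_pow_eq_one hk')
  have hj0 : j ≠ 0 := by
    rintro rfl
    rw [pow_zero, orderOf_eq_one_iff] at hj
    exact hw1 hj
  obtain ⟨i, rfl⟩ := Nat.exists_eq_succ_of_ne_zero hj0
  set v := w ^ 2 ^ i with hv
  have hvv : v * v = 1 := by
    rw [hv, ← pow_add, ← two_mul, ← pow_succ', ← hj, pow_orderOf_eq_one]
  have hv1 : v ≠ 1 := by
    intro h
    have := orderOf_dvd_of_pow_eq_one h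
    rw [hj] at this
    have h3 := Nat.le_of_dvd (by positivity) this
    have : 2 ^ i < 2 ^ (i + 1) := Nat.pow_lt_pow_right (by norm_num) (by omega)
    omega
  apply hv1
  have hvP : v ∈ P := P.pow_mem hw _
  have hvc : v ∈ Subgroup.center G := Subgroup.pow_mem _ hwc _
  apply hZ v hvc
  rw [hinv v hvP hvc]
  exact inv_eq_of_mul_eq_one_left hvv

theorem o2_bound (n c : ℕ) : ∃ B : ℕ, ∀ (G : Type) [Group G] [Finite G] (α : MulAut G),
    Hyp α → Z0triv α → Nat.card (XS α) ≤ n → Nat.card (FixS α) ≤ c →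
    ∀ P : Subgroup G, P.Normal → Inv α P → IsPGroup 2 P → Nat.card P ≤ B := by
  refine ⟨(c * n) ^ n, ?_⟩
  intro G _ _ α h hZ hn hc P hPn hPi hP
  classical
  haveI : Fintype (XS α) := Fintype.ofFinite _
  have hrel : ∀ x : XS α, (Subgroup.centralizer ({x.1} : Set G)).relIndex P ≤ c * n := by
    intro x
    have h1 := card_le_of_mem_XS h.sq P hPi hP x.1 x.2
    have h2 := Subgroup.relIndex_mul_relIndex ⊥ (Subgroup.centralizer ({x.1} : Set G) ⊓ P) P
      bot_le inf_le_right
    rw [Subgroup.relIndex_bot_left, Subgroup.relIndex_bot_left, Subgroup.inf_relIndex_right] at h2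
    rw [inf_comm] at h1
    set K := Nat.card (Subgroup.centralizer ({x.1} : Set G) ⊓ P : Subgroup G) with hK
    have hKpos : 0 < K := Nat.card_pos
    rw [← h2] at h1
    have h3 : K * (Subgroup.centralizer ({x.1} : Set G)).relIndex P ≤ K * (c * n) := by
      calc K * (Subgroup.centralizer ({x.1} : Set G)).relIndex P
          ≤ Nat.card (FixS α) * (Nat.card (XS α) * K) := h1
        _ ≤ c * (n * K) := Nat.mul_le_mul hc (Nat.mul_le_mul hn le_rfl)
        _ = K * (c * n) := by ring
    exact Nat.le_of_mul_le_mul_left h3 hKpos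
  have h4 := Subgroup.relIndex_iInf_le (L := P)
    (fun x : XS α => Subgroup.centralizer ({x.1} : Set G))
  have h5 : (⨅ x : XS α, Subgroup.centralizer ({x.1} : Set G)) ⊓ P = ⊥ := by
    rw [eq_bot_iff]
    rintro w ⟨hw1, hw2⟩
    rw [Subgroup.mem_bot]
    apply eq_one_of_central_two h.sq hZ P hPi hP w hw2
    rw [Subgroup.mem_center_iff]
    have hle : Subgroup.closure (XS α) ≤ Subgroup.centralizer ({w} : Set G) := by
      rw [Subgroup.closure_le]
      intro x hx
      have h6 : w ∈ Subgroup.centralizer ({x} : Set G) := by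
        have := (Subgroup.mem_iInf.1 hw1) ⟨x, hx⟩
        exact this
      rw [Subgroup.mem_centralizer_singleton_iff] at h6
      rw [SetLike.mem_coe, Subgroup.mem_centralizer_singleton_iff]
      exact h6.symm
    intro g
    have hg : g ∈ Subgroup.centralizer ({w} : Set G) := hle (by rw [gen_XS h]; trivial)
    rw [Subgroup.mem_centralizer_singleton_iff] at hg
    exact hg
  rw [← Subgroup.inf_relIndex_right, h5, Subgroup.relIndex_bot_left] at h4
  refine h4.trans ?_
  calc ∏ x : XS α, (Subgroup.centralizer ({x.1} : Set G)).relIndex P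
      ≤ ∏ _x : XS α, (c * n) := Finset.prod_le_prod' (fun x _ => hrel x)
    _ = (c * n) ^ Nat.card (XS α) := by
        rw [Finset.prod_const, Finset.card_univ, Nat.card_eq_fintype_card]
    _ ≤ (c * n) ^ n := by
        apply Nat.pow_le_pow_right _ hn
        have h7 : 0 < Nat.card (FixS α) := Nat.card_pos
        have : Nonempty (XS α) := ⟨⟨1, one_mem_XS α⟩⟩
        have h8 : 0 < Nat.card (XS α) := Nat.card_pos
        exact Nat.mul_pos (by omega) (by omega)

end Cfsg.Agent.Lib.Helper65.IA
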