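import Mathlib
import Cfsg.Agent.Lib.Helper65.IA.Defs
import Cfsg.Agent.Lib.Helper65.IA.Lift
import Cfsg.Agent.Lib.Helper65.IA.Gen
import Cfsg.Agent.Lib.Helper65.IA.Fix
import Cfsg.Agent.Lib.Helper65.IA.No2Max
import Cfsg.Agent.Lib.Helper65.IA.No2Q
import Cfsg.Agent.Lib.Helper65.IA.CK
import Cfsg.Agent.Lib.Helper65.IA.O2
import Cfsg.Agent.Lib.Helper65.IA.BS
import Cfsg.Agent.Lib.Helper29.IABF
import Cfsg.Agent.Lib.Helper29.IADietz
import Cfsg.Agent.Lib.Helper29.IASchur

set_option autoImplicit false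

namespace Cfsg.Agent.Lib.Helper65.IA

open Cfsg.Agent.Lib.Helper29.IA (brauer_fowler dietzmann schur_bound)

/-! ## MAIN -/

theorem inv_normalClosure {G : Type} [Group G] [Finite G] {α : MulAut G} {z : G} (hz : α z = z) :
    Inv α (Subgroup.normalClosure ({z} : Set G)) := by
  apply inv_of_forall
  intro g hg
  have hle : Subgroup.normalClosure ({z} : Set G) ≤
      (Subgroup.normalClosure ({z} : Set G)).comap (α : G ≃* G).toMonoidHom := by
    have hn : ((Subgroup.normalClosure ({z} : Set G)).comap (α : G ≃* G).toMonoidHom).Normal :=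
      Subgroup.Normal.comap Subgroup.normalClosure_normal _
    apply Subgroup.normalClosure_le_normal
    intro w hw
    rw [Set.mem_singleton_iff] at hw
    subst hw
    show α w ∈ Subgroup.normalClosure ({w} : Set G)
    rw [hz]
    exact Subgroup.subset_normalClosure (Set.mem_singleton w)
  exact hle hg

theorem card_eq_mul {G : Type} [Group G] (N : Subgroup G) [N.Normal] :
    Nat.card G = Nat.card N * Nat.card (G ⧸ N) := by
  rw [mul_comm]; exact Subgroup.card_eq_card_quotient_mul_card_subgroup N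

theorem main (n : ℕ) : ∃ B : ℕ, ∀ (G : Type) [Group G] [Finite G] (α : MulAut G),
    Hyp α → Nat.card (XS α) ≤ n → Nat.card G ≤ B := by
  induction n with
  | zero =>
    refine ⟨0, fun G _ _ α _ hc => ?_⟩
    exfalso
    have : Nonempty (XS α) := ⟨⟨1, one_mem_XS α⟩⟩
    have := Nat.card_pos (α := XS α)
    omega
  | succ n ih =>
    obtain ⟨Bn, hBn⟩ := ih
    set N := n + 1 with hN
    set c0 := N.factorial with hc0
    obtain ⟨d, hd⟩ := dietzmann (2 * c0 * c0)
    set b3 := max (2 * c0 * N) (d * Bn) with hb3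
    obtain ⟨b2, hb2⟩ := schur_bound b3 N
    obtain ⟨p1, hp1⟩ := o2_bound N c0
    obtain ⟨B, hB⟩ := schur_bound (p1 * b2) N
    refine ⟨B, fun G _ _ α h hc => ?_⟩
    -- step 1
    obtain ⟨Q, hQn, hQ, hQc, hZ1⟩ := center_kill h
    have h1 := hyp_qa h Q hQ
    have hc1 : Nat.card (XS (qa α Q hQ)) ≤ N := (card_XS_qa_le h.sq Q hQ).trans hc
    apply hB G α h hc
    have hidx : (Subgroup.center G).index ≤ Nat.card (G ⧸ Q) := by
      have := Subgroup.index_dvd_of_le hQc
      exact Nat.le_of_dvd Nat.card_pos this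
    refine hidx.trans ?_
    -- step 2
    have hf1 : Nat.card (FixS (qa α Q hQ)) ≤ c0 :=
      (card_FixS_le h1 hZ1).trans (Nat.factorial_le hc1)
    obtain ⟨P, hPn, hP, hP2, hno2⟩ := exists_max_two (qa α Q hQ)
    have hPc := hp1 _ _ h1 hZ1 hc1 hf1 P hPn hP hP2
    have h2 := hyp_qa h1 P hP
    have hc2 : Nat.card (XS (qa (qa α Q hQ) P hP)) ≤ N := (card_XS_qa_le h1.sq P hP).trans hc1
    rw [card_eq_mul P]
    refine Nat.mul_le_mul hPc ?_
    -- step 3
    obtain ⟨Q2, hQ2n, hQ2, hQ2c, hZ3⟩ := center_kill h2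
    have h3 := hyp_qa h2 Q2 hQ2
    have hc3 : Nat.card (XS (qa (qa (qa α Q hQ) P hP) Q2 hQ2)) ≤ N :=
      (card_XS_qa_le h2.sq Q2 hQ2).trans hc2
    have hno3 := no2_qa_central hno2 Q2 hQ2 hQ2c
    apply hb2 _ _ h2 hc2
    have hidx2 : (Subgroup.center ((G ⧸ Q) ⧸ P)).index ≤ Nat.card (((G ⧸ Q) ⧸ P) ⧸ Q2) := by
      have := Subgroup.index_dvd_of_le hQ2c
      exact Nat.le_of_dvd Nat.card_pos this
    refine hidx2.trans ?_
    -- step 4
    have hf3 : Nat.card (FixS (qa (qa (qa α Q hQ) P hP) Q2 hQ2)) ≤ c0 :=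
      (card_FixS_le h3 hZ3).trans (Nat.factorial_le hc3)
    rcases brauer_fowler h3.sq with hlt | ⟨z, hz1, hzz, hzf, hzi⟩
    · refine le_trans hlt.le (le_trans ?_ (le_max_left _ _))
      exact Nat.mul_le_mul (Nat.mul_le_mul le_rfl hf3) hc3
    · refine le_trans ?_ (le_max_right _ _)
      have hAc := hd _ z hzz (hzi.trans (Nat.mul_le_mul (Nat.mul_le_mul le_rfl hf3) hf3))
      have hAi := inv_normalClosure hzf
      have hA1 : Subgroup.normalClosure ({z} : Set (((G ⧸ Q) ⧸ P) ⧸ Q2)) ≠ ⊥ := by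
        intro hbot
        have : z ∈ Subgroup.normalClosure ({z} : Set (((G ⧸ Q) ⧸ P) ⧸ Q2)) :=
          Subgroup.subset_normalClosure (Set.mem_singleton z)
        rw [hbot, Subgroup.mem_bot] at this
        exact hz1 this
      obtain ⟨x, hx, hxA, hx1⟩ := exists_XS_mem h3 hZ3 hno3 _ Subgroup.normalClosure_normal hAi hA1
      have hlt := card_XS_qa_lt h3.sq _ hAi x hx hxA hx1
      have h4 := hyp_qa h3 _ hAi
      have := hBn _ _ h4 (by omega)
      rw [card_eq_mul (Subgroup.normalClosure ({z} : Set (((G ⧸ Q) ⧸ P) ⧸ Q2)))]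
      exact Nat.mul_le_mul hAc this

end Cfsg.Agent.Lib.Helper65.IA
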